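import Cfsg.Agent.H855.FR.Wr
import Cfsg.Agent.Characters.SchurBound

/-!
# S4970, UNI-2: group theory (helper47)

* `fsz_two`: an index two subgroup `A` such that all elements outside `A` have square `z`;
* `dic`: the group `A ∪ A t`, `A = ⟨c, z⟩`, `t² = z`, `t` inverting `c`;
* `fszs_mul`: commuting products.
-/

set_option autoImplicit false

universe u

namespace Cfsg.Agent.H47.Uni

open Cfsg Cfsg.Agent.H955.FS Cfsg.Agent.H721.FR Cfsg.Agent.H855.FR Cfsg.Agent.Characters.Core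

/-- all elements outside a subgroup of index `2` have square `z` -/
theorem fsz_two {Y : Type u} [Group Y] [Finite Y] (A : Subgroup Y) (hA : A.index = 2) {z : Y}
    (hz : ∀ g, g * z = z * g) (hz2 : z * z = 1) (h : ∀ y, y ∉ A → y * y = z) : FSZ z := by
  classical
  have := Fintype.ofFinite Y
  intro χ hχ h1
  obtain ⟨n, hn, hn1⟩ := isIrr_apply_one hχ
  have h2 := sum_eq hχ hz
  rw [h1] at h2
  have h0 : χ 1 ≠ 0 := isIrr_apply_one_ne_zero hχ
  have h3 : ∑ s : Y, χ (z * (s * s)) = - (Nat.card Y : ℂ) := by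
    apply mul_right_cancel₀ h0
    rw [h2]
    ring
  -- the real part is not negative
  have h4 : (∑ s : Y, χ (z * (s * s))).re = ∑ s : Y, (χ (z * (s * s))).re := by
    rw [Complex.re_sum]
  have hb : ∀ g : Y, - (n : ℝ) ≤ (χ g).re := by
    intro g
    have h5 := Characters.SchurBound.norm_le (isIrr_isCharacter hχ) hn1 g
    have h6 := Complex.abs_re_le_norm (χ g)
    have h7 := abs_le.1 (h6.trans h5)
    exact h7.1
  have h5 : ∑ s : Y, (χ (z * (s * s))).re = ∑ s ∈ Finset.univ.filter (· ∈ A), (χ (z * (s * s))).re +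
      ∑ s ∈ Finset.univ.filter (¬ · ∈ A), (χ (z * (s * s))).re :=
    (Finset.sum_filter_add_sum_filter_not _ _ _).symm
  have hcA : (Finset.univ.filter (· ∈ A)).card = Nat.card A := by
    rw [Nat.card_eq_fintype_card, Fintype.card_subtype]
  have hcY : Nat.card A * 2 = Nat.card Y := by rw [← hA]; exact A.card_mul_index
  have hcA' : (Finset.univ.filter (¬ · ∈ A)).card = Nat.card A := by
    have h6 := Finset.card_filter_add_card_filter_not (s := (Finset.univ : Finset Y)) (· ∈ A)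
    rw [Finset.card_univ, ← Nat.card_eq_fintype_card, hcA, ← hcY] at h6
    omega
  have h6 : ∑ s ∈ Finset.univ.filter (¬ · ∈ A), (χ (z * (s * s))).re = Nat.card A * (n : ℝ) := by
    rw [Finset.sum_congr rfl (g := fun _ => (n : ℝ)) (fun s hs => by
      rw [h s (Finset.mem_filter.1 hs).2, hz2, hn1]
      exact Complex.natCast_re n), Finset.sum_const, hcA', nsmul_eq_mul]
  have h7 : - (Nat.card A * (n : ℝ)) ≤ ∑ s ∈ Finset.univ.filter (· ∈ A), (χ (z * (s * s))).re := by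
    calc - (Nat.card A * (n : ℝ)) = ∑ s ∈ Finset.univ.filter (· ∈ A), (- (n : ℝ)) := by
          rw [Finset.sum_const, hcA, nsmul_eq_mul]; ring
      _ ≤ _ := Finset.sum_le_sum fun s _ => hb _
  have h8 : (0 : ℝ) ≤ (∑ s : Y, χ (z * (s * s))).re := by
    rw [h4, h5, h6]
    linarith
  rw [h3] at h8
  have h9 : (- (Nat.card Y : ℂ)).re = - (Nat.card Y : ℝ) := by simp
  rw [h9] at h8
  have h10 : (0 : ℝ) < Nat.card Y := by exact_mod_cast Nat.card_pos
  linarith

/-- the group `A ∪ A t` -/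
def ext {Γ : Type u} [Group Γ] (A : Subgroup Γ) (t : Γ) (ht : ∀ a ∈ A, t * a * t⁻¹ ∈ A) (ht2 : t * t ∈ A)
    (ht' : ∀ a ∈ A, t⁻¹ * a * t ∈ A) : Subgroup Γ where
  carrier := {x | x ∈ A ∨ x * t ∈ A}
  one_mem' := Or.inl A.one_mem
  mul_mem' := by
    rintro x y (hx | hx) (hy | hy)
    · exact Or.inl (A.mul_mem hx hy)
    · right
      rw [mul_assoc]
      exact A.mul_mem hx hy
    · right
      have h1 : x * y * t = (x * t) * (t⁻¹ * y * t) := by group
      rw [h1]
      exact A.mul_mem hx (ht' y hy)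
    · left
      have h1 : x * y = (x * t) * (t⁻¹ * (y * t) * t) * (t * t)⁻¹ := by group
      rw [h1]
      exact A.mul_mem (A.mul_mem hx (ht' _ hy)) (A.inv_mem ht2)
  inv_mem' := by
    rintro x (hx | hx)
    · exact Or.inl (A.inv_mem hx)
    · right
      have h1 : x⁻¹ * t = (t * (x * t)⁻¹ * t⁻¹) * (t * t) := by group
      rw [h1]
      exact A.mul_mem (ht _ (A.inv_mem hx)) ht2

theorem mem_ext {Γ : Type u} [Group Γ] {A : Subgroup Γ} {t : Γ} {ht : ∀ a ∈ A, t * a * t⁻¹ ∈ A} {ht2 : t * t ∈ A}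
    {ht' : ∀ a ∈ A, t⁻¹ * a * t ∈ A} {x : Γ} : x ∈ ext A t ht ht2 ht' ↔ x ∈ A ∨ x * t ∈ A := Iff.rfl

/-- the subgroup generated by two commuting elements -/
def two {Γ : Type u} [Group Γ] {c z : Γ} (hcz : c * z = z * c) : Subgroup Γ where
  carrier := {x | ∃ i j : ℤ, x = c ^ i * z ^ j}
  one_mem' := ⟨0, 0, by simp⟩
  mul_mem' := by
    rintro _ _ ⟨i, j, rfl⟩ ⟨k, l, rfl⟩
    refine ⟨i + k, j + l, ?_⟩
    have h1 : z ^ j * c ^ k = c ^ k * z ^ j := ((Commute.zpow_zpow (show Commute c z from hcz) k j).eq).symm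
    calc c ^ i * z ^ j * (c ^ k * z ^ l) = c ^ i * (z ^ j * c ^ k) * z ^ l := by group
      _ = c ^ i * (c ^ k * z ^ j) * z ^ l := by rw [h1]
      _ = _ := by rw [zpow_add, zpow_add]; group
  inv_mem' := by
    rintro _ ⟨i, j, rfl⟩
    refine ⟨-i, -j, ?_⟩
    have h1 : z ^ (-j) * c ^ (-i) = c ^ (-i) * z ^ (-j) :=
      ((Commute.zpow_zpow (show Commute c z from hcz) (-i) (-j)).eq).symm
    rw [← h1, mul_inv_rev, zpow_neg, zpow_neg]

/-- **dicyclic or dihedral groups** -/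
theorem exists_dic {Γ : Type u} [Group Γ] {c t z : Γ} (ho : Odd (orderOf c)) (hc1 : c ≠ 1)
    (htc : t * c * t⁻¹ = c⁻¹) (htz : t * t = z) (hz2 : z * z = 1) :
    ∃ (D : Subgroup Γ) (hz : z ∈ D), Finite D ∧ c ∈ D ∧ t ∈ D ∧ (∀ x ∈ D, ∃ i j k : ℤ, x = c ^ i * z ^ j * t ^ k) ∧
      (∀ g ∈ D, g * z = z * g) ∧ FSZ (⟨z, hz⟩ : D) := by
  have htz' : t * z = z * t := by rw [← htz]; group
  have htc' : t⁻¹ * c * t = c⁻¹ := by
    have h1 : t⁻¹ * (t * c * t⁻¹) * t = c := by group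
    rw [htc] at h1
    have h2 : (t⁻¹ * c⁻¹ * t)⁻¹ = t⁻¹ * c * t := by group
    rw [← h2, h1]
  have hcz : c * z = z * c := by
    have h1 : z * c * z⁻¹ = c := by
      rw [← htz]
      calc t * t * c * (t * t)⁻¹ = t * (t * c * t⁻¹) * t⁻¹ := by group
        _ = t * c⁻¹ * t⁻¹ := by rw [htc]
        _ = (t * c * t⁻¹)⁻¹ := by group
        _ = c := by rw [htc, inv_inv]
    calc c * z = (z * c * z⁻¹) * z := by rw [h1]
      _ = z * c := by group
  have hconj : ∀ i j : ℤ, t * (c ^ i * z ^ j) * t⁻¹ = c ^ (-i) * z ^ j := by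
    intro i j
    have h1 : t * c ^ i * t⁻¹ = c ^ (-i) := by
      rw [← conj_zpow, htc, inv_zpow, zpow_neg]
    have h2 : t * z ^ j * t⁻¹ = z ^ j := by
      rw [← conj_zpow, htz', mul_inv_cancel_right]
    calc t * (c ^ i * z ^ j) * t⁻¹ = (t * c ^ i * t⁻¹) * (t * z ^ j * t⁻¹) := by group
      _ = _ := by rw [h1, h2]
  have hconj' : ∀ i j : ℤ, t⁻¹ * (c ^ i * z ^ j) * t = c ^ (-i) * z ^ j := by
    intro i j
    have h1 := hconj (-i) j
    rw [neg_neg] at h1
    rw [← h1]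
    group
  set A : Subgroup Γ := two hcz with hA
  have hcA : c ∈ A := ⟨1, 0, by simp⟩
  have hzA : z ∈ A := ⟨0, 1, by simp⟩
  have h1 : ∀ a ∈ A, t * a * t⁻¹ ∈ A := by
    rintro _ ⟨i, j, rfl⟩
    exact ⟨-i, j, hconj i j⟩
  have h1' : ∀ a ∈ A, t⁻¹ * a * t ∈ A := by
    rintro _ ⟨i, j, rfl⟩
    exact ⟨-i, j, hconj' i j⟩
  have h2 : t * t ∈ A := by rw [htz]; exact hzA
  have hzi : z⁻¹ = z := inv_eq_of_mul_eq_one_left hz2
  set D : Subgroup Γ := ext A t h1 h2 h1' with hD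
  have hcD : c ∈ D := Or.inl hcA
  have hzD : z ∈ D := Or.inl hzA
  have htD : t ∈ D := Or.inr h2
  -- finiteness
  have hfA : Finite A := by
    have hfc : (Set.range fun k : ℤ => c ^ k).Finite := by
      have h3 : IsOfFinOrder c := by
        rw [← orderOf_pos_iff]
        exact ho.pos
      have h4 := h3.finite_zpowers
      exact h4
    have hfz : (Set.range fun k : ℤ => z ^ k).Finite := by
      have h3 : IsOfFinOrder z := isOfFinOrder_iff_pow_eq_one.2 ⟨2, by norm_num, by rw [pow_two]; exact hz2⟩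
      exact h3.finite_zpowers
    have h5 : (A : Set Γ) ⊆ Set.image2 (fun a b => a * b) (Set.range fun k : ℤ => c ^ k) (Set.range fun k : ℤ => z ^ k) := by
      rintro _ ⟨i, j, rfl⟩
      exact ⟨c ^ i, ⟨i, rfl⟩, z ^ j, ⟨j, rfl⟩, rfl⟩
    exact ((hfc.image2 _ hfz).subset h5).to_subtype
  have hfD : Finite D := by
    have h5 : (D : Set Γ) ⊆ (A : Set Γ) ∪ (fun x => x * t⁻¹) '' (A : Set Γ) := by
      rintro x (hx | hx)
      · exact Or.inl hx
      · exact Or.inr ⟨x * t, hx, by simp⟩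
    exact (((Set.toFinite (A : Set Γ)).union ((Set.toFinite (A : Set Γ)).image _)).subset h5).to_subtype
  -- `t` is not in `A`
  have htA : t ∉ A := by
    rintro ⟨i, j, h⟩
    have h3 : t * c * t⁻¹ = c := by
      have h4 : t * c = c * t := by
        rw [h]
        have h5 : c * z ^ j = z ^ j * c := (Commute.zpow_right (show Commute c z from hcz) j).eq
        calc c ^ i * z ^ j * c = c ^ i * (z ^ j * c) := by group
          _ = c ^ i * (c * z ^ j) := by rw [h5]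
          _ = _ := by group
      rw [h4, mul_inv_cancel_right]
    rw [h3] at htc
    have h4 : c ^ 2 = 1 := by
      rw [pow_two]
      calc c * c = c * c⁻¹ := by rw [← htc]
        _ = 1 := mul_inv_cancel c
    have h5 : orderOf c ∣ 2 := orderOf_dvd_of_pow_eq_one h4
    rcases (Nat.dvd_prime Nat.prime_two).1 h5 with h6 | h6
    · exact hc1 (orderOf_eq_one_iff.1 h6)
    · rw [h6] at ho
      exact absurd ho (by decide)
  have hzc : ∀ g ∈ D, g * z = z * g := by
    have h3 : ∀ a ∈ A, a * z = z * a := by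
      rintro _ ⟨i, j, rfl⟩
      have h4 : c ^ i * z = z * c ^ i := (Commute.zpow_left (show Commute c z from hcz) i).eq
      have h5 : z ^ j * z = z * z ^ j := (Commute.zpow_left (Commute.refl z) j).eq
      rw [mul_assoc, h5, ← mul_assoc, h4, mul_assoc]
    rintro x (hx | hx)
    · exact h3 x hx
    · have h4 := h3 _ hx
      have h5 : x * z * t = z * x * t := by
        calc x * z * t = x * (t * z) := by rw [mul_assoc, htz']
          _ = x * t * z := by rw [mul_assoc]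
          _ = z * (x * t) := h4
          _ = z * x * t := by rw [mul_assoc]
      exact mul_right_cancel h5
  refine ⟨D, hzD, hfD, hcD, htD, ?_, hzc, ?_⟩
  · rintro x (⟨i, j, hx⟩ | ⟨i, j, hx⟩)
    · exact ⟨i, j, 0, by rw [hx]; simp⟩
    · refine ⟨i, j, -1, ?_⟩
      rw [← hx]
      simp
  · refine fsz_two (A.subgroupOf D) ?_ ?_ ?_ ?_
    · rw [Subgroup.index_eq_two_iff]
      refine ⟨⟨t, htD⟩, fun b => ?_⟩
      rw [Subgroup.mem_subgroupOf, Subgroup.mem_subgroupOf]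
      show Xor ((b : Γ) * t ∈ A) ((b : Γ) ∈ A)
      rcases b.2 with hb | hb
      · refine Or.inr ⟨hb, fun h => htA ?_⟩
        have h3 : t = (b : Γ)⁻¹ * (b * t) := by group
        rw [h3]
        exact A.mul_mem (A.inv_mem hb) h
      · refine Or.inl ⟨hb, fun h => htA ?_⟩
        have h3 : t = (b : Γ)⁻¹ * (b * t) := by group
        rw [h3]
        exact A.mul_mem (A.inv_mem h) hb
    · intro g
      exact Subtype.ext (hzc g g.2)
    · exact Subtype.ext hz2
    · intro y hy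
      apply Subtype.ext
      show (y : Γ) * y = z
      have hy' : (y : Γ) ∉ A := hy
      have hyt : (y : Γ) * t ∈ A := y.2.resolve_left hy'
      obtain ⟨i, j, hij⟩ := hyt
      have h3 : (y : Γ) = c ^ i * z ^ j * t⁻¹ := by rw [← hij]; group
      have h4 : z ^ j * z ^ j = 1 := by
        rw [← (Commute.refl z).mul_zpow, hz2, one_zpow]
      have h5 : t⁻¹ * t⁻¹ = z := by
        have : t⁻¹ * t⁻¹ = (t * t)⁻¹ := by group
        rw [this, htz, hzi]
      have h6 : c ^ i * z ^ j = z ^ j * c ^ i := (Commute.zpow_zpow (show Commute c z from hcz) i j).eq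
      calc (y : Γ) * y = c ^ i * z ^ j * (t⁻¹ * (c ^ i * z ^ j) * t) * (t⁻¹ * t⁻¹) := by rw [h3]; group
        _ = c ^ i * z ^ j * (c ^ (-i) * z ^ j) * z := by rw [hconj', h5]
        _ = z ^ j * (c ^ i * c ^ (-i)) * z ^ j * z := by rw [h6]; group
        _ = z := by rw [← zpow_add, add_neg_cancel, zpow_zero, mul_one, h4, one_mul]

/-- **commuting products** -/
theorem fszs_mul {Γ : Type u} [Group Γ] (D : Subgroup Γ) [Finite D] {H : Type u} [Group H] [Finite H] (τ : H →* Γ)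
    (hc : ∀ d ∈ D, ∀ h, d * τ h = τ h * d) {z : Γ} (hzD : z ∈ D) {w : H} (hz : ∀ g ∈ D, g * z = z * g)
    (hz2 : z * z = 1) (hw : ∀ g, g * w = w * g) (hw2 : w * w = 1) (h1 : FSZ (⟨z, hzD⟩ : D)) (h2 : FSZ w) :
    ∃ Y : Subgroup Γ, D ≤ Y ∧ τ.range ≤ Y ∧ (∀ y ∈ Y, ∃ d ∈ D, ∃ h, y = d * τ h) ∧ FSZs Y (z * τ w) := by
  let f : D × H →* Γ := MonoidHom.noncommCoprod D.subtype τ (fun d h => hc d d.2 h)
  have hf : ∀ x : D × H, f x = (x.1 : Γ) * τ x.2 := fun x => rfl
  refine ⟨f.range, ?_, ?_, ?_, ?_⟩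
  · intro d hd
    exact ⟨(⟨d, hd⟩, 1), by rw [hf]; simp⟩
  · rintro _ ⟨h, rfl⟩
    exact ⟨(1, h), by rw [hf]; simp⟩
  · rintro _ ⟨x, rfl⟩
    exact ⟨x.1, x.1.2, x.2, hf x⟩
  · have h3 : FSZ ((⟨z, hzD⟩, w) : D × H) :=
      FSZ.prod (fun g => Subtype.ext (hz g g.2)) (Subtype.ext hz2) hw hw2 h1 h2
    refine ⟨⟨(⟨z, hzD⟩, w), hf _⟩, ?_⟩
    have h4 := FSZ.of_surjective f.rangeRestrict f.rangeRestrict_surjective h3
    exact h4

end Cfsg.Agent.H47.Uni
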