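import Cfsg.Agent.H47.Uni.Grp
import Cfsg.Agent.Characters.CCBasic

/-!
# S4970, UNI-2 (d): group theory (helper47)

* `good_of_sum`: squares in a commutative subgroup `A`, all `∑ ψ(s²)` with `ψ` a linear character of `A` have
  nonnegative real part: no indicator is `-1`;
* `exists_sd`: the group `A ∪ A x ∪ A y ∪ A x y`;
* `exists_pair`: a 2-group acting by conjugation on a set of `2 mod 4` elements closed under `x ↦ z x`.
-/

set_option autoImplicit false

universe u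

namespace Cfsg.Agent.H47.Uni

open Cfsg Cfsg.Agent.H955.FS Cfsg.Agent.H721.FR Cfsg.Agent.H855.FR Cfsg.Agent.Characters.Core

theorem good_of_sum {K : Type u} [Group K] [Fintype K] (A : Subgroup K) (hc : ∀ a b : A, a * b = b * a)
    (hs : ∀ s : K, s * s ∈ A) (h : ∀ ψ : A →* ℂˣ, 0 ≤ (∑ s : K, ((ψ ⟨s * s, hs s⟩ : ℂˣ) : ℂ)).re) :
    FSGood True K := by
  classical
  have hfA : Finite (IrrCharacter A) := finite_irr
  have := Fintype.ofFinite (IrrCharacter A)
  intro χ hχ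
  rcases fsi_cases hχ with h1 | h1 | h1
  · exact Or.inr ⟨trivial, h1⟩
  · exact Or.inl h1
  · exfalso
    rw [fsi_eq_sum] at h1
    have hK : (Nat.card K : ℂ) ≠ 0 := card_ne_zero_complex
    have h2 : ∑ s : K, χ (s * s) = - (Nat.card K : ℂ) := by
      calc ∑ s : K, χ (s * s) = (Nat.card K : ℂ) * ((Nat.card K : ℂ)⁻¹ * ∑ s : K, χ (s * s)) := by
            rw [← mul_assoc, mul_inv_cancel₀ hK, one_mul]
        _ = _ := by rw [h1]; ring
    obtain ⟨m, hm⟩ := exists_nat_comb (isCharacter_comp A.subtype (isIrr_isCharacter hχ))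
    have h3 : ∀ s : K, χ (s * s) = ∑ lam : IrrCharacter A, (m lam : ℂ) * (lam : A → ℂ) ⟨s * s, hs s⟩ := by
      intro s
      have h4 := congrFun hm ⟨s * s, hs s⟩
      rw [Function.comp_apply] at h4
      have h5 : (A.subtype ⟨s * s, hs s⟩ : K) = s * s := rfl
      rw [h5] at h4
      rw [h4, Finset.sum_apply]
      refine Finset.sum_congr rfl fun lam _ => ?_
      rw [Pi.smul_apply, nsmul_eq_mul]
    have h4 : ∑ s : K, χ (s * s) = ∑ lam : IrrCharacter A, (m lam : ℂ) * ∑ s : K, (lam : A → ℂ) ⟨s * s, hs s⟩ := by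
      rw [Finset.sum_congr rfl fun s _ => h3 s, Finset.sum_comm]
      refine Finset.sum_congr rfl fun lam _ => ?_
      rw [Finset.mul_sum]
    have h5 : 0 ≤ (∑ s : K, χ (s * s)).re := by
      rw [h4, Complex.re_sum]
      refine Finset.sum_nonneg fun lam _ => ?_
      obtain ⟨f, hf⟩ := Characters.CCBasic.exists_hom_of_comm hc lam.2
      have h6 : ∑ s : K, (lam : A → ℂ) ⟨s * s, hs s⟩ = ∑ s : K, ((f ⟨s * s, hs s⟩ : ℂˣ) : ℂ) :=
        Finset.sum_congr rfl fun s _ => by rw [hf]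
      rw [h6]
      have h7 := h f
      have h8 : ((m lam : ℂ) * ∑ s : K, ((f ⟨s * s, hs s⟩ : ℂˣ) : ℂ)).re =
          (m lam : ℝ) * (∑ s : K, ((f ⟨s * s, hs s⟩ : ℂˣ) : ℂ)).re := by
        rw [Complex.mul_re, Complex.natCast_re, Complex.natCast_im, zero_mul, sub_zero]
      rw [h8]
      exact mul_nonneg (Nat.cast_nonneg _) h7
    rw [h2] at h5
    have h9 : (- (Nat.card K : ℂ)).re = - (Nat.card K : ℝ) := by simp
    rw [h9] at h5
    have h10 : (0 : ℝ) < Nat.card K := by exact_mod_cast Nat.card_pos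
    linarith

/-- the sum of a linear character -/
theorem sum_lin {A : Type u} [Group A] [Fintype A] (f : A →* ℂˣ) :
    ∑ a : A, ((f a : ℂˣ) : ℂ) = Nat.card A ∧ (∀ a, f a = 1) ∨ ∑ a : A, ((f a : ℂˣ) : ℂ) = 0 := by
  classical
  by_cases h : ∀ a, f a = 1
  · left
    refine ⟨?_, h⟩
    rw [Finset.sum_congr rfl fun a _ => by rw [h a]]
    simp
  · right
    push Not at h
    obtain ⟨b, hb⟩ := h
    have h1 : ((f b : ℂˣ) : ℂ) * ∑ a : A, ((f a : ℂˣ) : ℂ) = ∑ a : A, ((f a : ℂˣ) : ℂ) := by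
      rw [Finset.mul_sum, ← Equiv.sum_comp (Equiv.mulLeft b) (fun a => ((f a : ℂˣ) : ℂ))]
      refine Finset.sum_congr rfl fun a _ => ?_
      rw [Equiv.coe_mulLeft, map_mul, Units.val_mul]
    have h2 : (((f b : ℂˣ) : ℂ) - 1) * ∑ a : A, ((f a : ℂˣ) : ℂ) = 0 := by
      rw [sub_mul, h1, one_mul, sub_self]
    rcases mul_eq_zero.1 h2 with h3 | h3
    · exfalso
      apply hb
      apply Units.ext
      rw [Units.val_one]
      exact sub_eq_zero.1 h3
    · exact h3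

/-- **four cosets** -/
theorem good_sd {K : Type u} [Group K] [Finite K] (A : Subgroup K) (hc : ∀ a b : A, a * b = b * a) {x y : K}
    (hx : ∀ a ∈ A, x * a * x⁻¹ ∈ A) (hy : ∀ a ∈ A, y * a * y⁻¹ = a⁻¹) (hy2 : y * y = 1) (hx2 : x * x ∈ A)
    {m : ℕ} (hw : (x * y) * (x * y) = (x * x) ^ (2 * m)) (hw2 : ((x * y) * (x * y)) ^ 2 = 1)
    (hxA : x ∉ A) (hyA : y ∉ A) (hxyA : x * y ∉ A)
    (hcov : ∀ s : K, s ∈ A ∨ s * x⁻¹ ∈ A ∨ s * y⁻¹ ∈ A ∨ s * (x * y)⁻¹ ∈ A) : FSGood True K := by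
  classical
  have := Fintype.ofFinite K
  have hfA : Fintype A := Fintype.ofFinite A
  set w := (x * y) * (x * y) with hwd
  have hwA : w ∈ A := by rw [hw]; exact A.pow_mem hx2 _
  have hyAi : ∀ a ∈ A, y * a * y⁻¹ ∈ A := fun a ha => by rw [hy a ha]; exact A.inv_mem ha
  have hyi : y⁻¹ = y := inv_eq_of_mul_eq_one_left hy2
  let r : Fin 4 → K := ![1, x, y, x * y]
  have hr : ∀ i, ∀ a ∈ A, r i * a * (r i)⁻¹ ∈ A := by
    intro i a ha
    fin_cases i
    · show 1 * a * 1⁻¹ ∈ A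
      simpa using ha
    · exact hx a ha
    · exact hyAi a ha
    · show x * y * a * (x * y)⁻¹ ∈ A
      have h1 : x * y * a * (x * y)⁻¹ = x * (y * a * y⁻¹) * x⁻¹ := by group
      rw [h1]
      exact hx _ (hyAi a ha)
  let Φ : Fin 4 × A → K := fun z => (z.2 : K) * r z.1
  have hsurj : Function.Surjective Φ := by
    intro s
    rcases hcov s with h | h | h | h
    · exact ⟨(0, ⟨s, h⟩), by show s * 1 = s; rw [mul_one]⟩
    · exact ⟨(1, ⟨_, h⟩), by show s * x⁻¹ * x = s; group⟩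
    · exact ⟨(2, ⟨_, h⟩), by show s * y⁻¹ * y = s; group⟩
    · exact ⟨(3, ⟨_, h⟩), by show s * (x * y)⁻¹ * (x * y) = s; group⟩
  have hne : ∀ i j, i ≠ j → r i * (r j)⁻¹ ∉ A := by
    have key : ∀ i j, i < j → r i * (r j)⁻¹ ∉ A := by
      intro i j hij h
      fin_cases i <;> fin_cases j <;> simp only [Fin.lt_def] at hij <;> (try omega)
      · have h1 : (1 * x⁻¹ : K) ∈ A := h
        rw [one_mul] at h1
        exact hxA (by simpa using A.inv_mem h1)
      · have h1 : (1 * y⁻¹ : K) ∈ A := h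
        rw [one_mul] at h1
        exact hyA (by simpa using A.inv_mem h1)
      · have h1 : (1 * (x * y)⁻¹ : K) ∈ A := h
        rw [one_mul] at h1
        exact hxyA (by simpa only [inv_inv] using A.inv_mem h1)
      · have h1 : (x * y⁻¹ : K) ∈ A := h
        rw [hyi] at h1
        exact hxyA h1
      · have h1 : (x * (x * y)⁻¹ : K) ∈ A := h
        have h2 : x * (x * y)⁻¹ = x * y⁻¹ * x⁻¹ := by group
        rw [h2] at h1
        -- `x y⁻¹ x⁻¹ ∈ A` and `x² ∈ A`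
        have h3 := hx _ h1
        have h4 : x * (x * y⁻¹ * x⁻¹) * x⁻¹ = (x * x) * y⁻¹ * (x * x)⁻¹ := by group
        rw [h4] at h3
        have h5 : y⁻¹ ∈ A := by
          have h6 := A.mul_mem (A.mul_mem (A.inv_mem hx2) h3) hx2
          have h7 : (x * x)⁻¹ * ((x * x) * y⁻¹ * (x * x)⁻¹) * (x * x) = y⁻¹ := by group
          rwa [h7] at h6
        exact hyA (by simpa using A.inv_mem h5)
      · have h1 : (y * (x * y)⁻¹ : K) ∈ A := h
        have h2 : y * (x * y)⁻¹ = x⁻¹ := by group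
        rw [h2] at h1
        exact hxA (by simpa using A.inv_mem h1)
    intro i j hij
    rcases lt_or_gt_of_ne hij with h | h
    · exact key i j h
    · intro h1
      apply key j i h
      have h2 : r j * (r i)⁻¹ = (r i * (r j)⁻¹)⁻¹ := by group
      rw [h2]
      exact A.inv_mem h1
  have hinj : Function.Injective Φ := by
    rintro ⟨i, a⟩ ⟨j, b⟩ h
    have h1 : (a : K) * r i = b * r j := h
    by_cases hij : i = j
    · subst hij
      rw [Prod.mk.injEq]
      exact ⟨rfl, Subtype.ext (mul_right_cancel h1)⟩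
    · exfalso
      apply hne i j hij
      have h2 : r i * (r j)⁻¹ = (a : K)⁻¹ * b := by
        have h3 : r i = (a : K)⁻¹ * (b * r j) := by rw [← h1]; group
        rw [h3]; group
      rw [h2]
      exact A.mul_mem (A.inv_mem a.2) b.2
  have hsq : ∀ (i : Fin 4) (a : A), ((a : K) * r i) * ((a : K) * r i) = a * (r i * a * (r i)⁻¹) * (r i * r i) := by
    intro i a
    group
  have hrr : ∀ i, r i * r i ∈ A := by
    intro i
    fin_cases i
    · show (1 : K) * 1 ∈ A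
      rw [one_mul]; exact A.one_mem
    · exact hx2
    · show y * y ∈ A
      rw [hy2]; exact A.one_mem
    · exact hwA
  have hs : ∀ s : K, s * s ∈ A := by
    intro s
    obtain ⟨⟨i, a⟩, rfl⟩ := hsurj s
    show (a : K) * r i * (a * r i) ∈ A
    rw [hsq]
    exact A.mul_mem (A.mul_mem a.2 (hr i a a.2)) (hrr i)
  refine good_of_sum A hc hs fun ψ => ?_
  -- the linear characters of the four cosets
  let cj : Fin 4 → A →* A := fun i =>
    { toFun := fun a => ⟨r i * a * (r i)⁻¹, hr i a a.2⟩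
      map_one' := Subtype.ext (by show r i * ((1 : A) : K) * (r i)⁻¹ = 1; simp)
      map_mul' := fun a b => Subtype.ext (by
        show r i * ((a * b : A) : K) * (r i)⁻¹ = r i * a * (r i)⁻¹ * (r i * b * (r i)⁻¹)
        rw [Subgroup.coe_mul]; group) }
  let φ : Fin 4 → A →* ℂˣ := fun i => ψ * ψ.comp (cj i)
  have hφ : ∀ i a, φ i a = ψ a * ψ (cj i a) := fun i a => rfl
  have hsum : ∑ s : K, ((ψ ⟨s * s, hs s⟩ : ℂˣ) : ℂ) =
      ∑ i : Fin 4, (ψ ⟨r i * r i, hrr i⟩ : ℂ) * ∑ a : A, ((φ i a : ℂˣ) : ℂ) := by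
    rw [← Function.Bijective.sum_comp ⟨hinj, hsurj⟩ (fun s => ((ψ ⟨s * s, hs s⟩ : ℂˣ) : ℂ)), Fintype.sum_prod_type]
    refine Finset.sum_congr rfl fun i _ => ?_
    rw [Finset.mul_sum]
    refine Finset.sum_congr rfl fun a _ => ?_
    rw [hφ, ← Units.val_mul]
    congr 1
    rw [← map_mul, ← map_mul]
    congr 1
    apply Subtype.ext
    show (a : K) * r i * (a * r i) = r i * r i * (a * (r i * a * (r i)⁻¹))
    rw [hsq]
    have h1 := hc (a * cj i a) ⟨r i * r i, hrr i⟩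
    exact congrArg Subtype.val h1
  have hcard : (0 : ℝ) ≤ Nat.card A := Nat.cast_nonneg _
  -- values
  have h0 : ψ ⟨r 0 * r 0, hrr 0⟩ = 1 := by
    have : (⟨r 0 * r 0, hrr 0⟩ : A) = 1 := Subtype.ext (by show (1 : K) * 1 = 1; rw [one_mul])
    rw [this, map_one]
  have h2 : ψ ⟨r 2 * r 2, hrr 2⟩ = 1 := by
    have : (⟨r 2 * r 2, hrr 2⟩ : A) = 1 := Subtype.ext (by show y * y = 1; exact hy2)
    rw [this, map_one]
  have hφ2 : ∀ a, φ 2 a = 1 := by
    intro a
    rw [hφ, ← map_mul]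
    have h3 : a * cj 2 a = 1 := by
      apply Subtype.ext
      show (a : K) * (y * a * y⁻¹) = 1
      rw [hy a a.2, mul_inv_cancel]
    rw [h3, map_one]
  have hs2 : ∑ a : A, ((φ 2 a : ℂˣ) : ℂ) = Nat.card A := by
    rw [Finset.sum_congr rfl fun a _ => by rw [hφ2 a]]
    simp
  have hw3 : (⟨r 3 * r 3, hrr 3⟩ : A) = (⟨r 1 * r 1, hrr 1⟩ : A) ^ (2 * m) := Subtype.ext hw
  have hpm : ∀ u : ℂˣ, u ^ 2 = 1 → (u : ℂ) = 1 ∨ (u : ℂ) = -1 := by
    intro u hu
    have h3 : (u : ℂ) ^ 2 = 1 := by rw [← Units.val_pow_eq_pow_val, hu, Units.val_one]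
    exact mul_self_eq_one_iff.1 (by rw [← pow_two]; exact h3)
  rw [hsum, Fin.sum_univ_four, h0, h2, hs2, Units.val_one, one_mul, one_mul]
  have e0 : (0 : ℝ) ≤ (∑ a : A, ((φ 0 a : ℂˣ) : ℂ)).re := by
    rcases sum_lin (φ 0) with ⟨h, -⟩ | h
    · rw [h, Complex.natCast_re]; exact hcard
    · rw [h, Complex.zero_re]
  have ew : ((ψ ⟨r 3 * r 3, hrr 3⟩ : ℂˣ) : ℂ) = 1 ∨ ((ψ ⟨r 3 * r 3, hrr 3⟩ : ℂˣ) : ℂ) = -1 := by
    apply hpm
    rw [← map_pow]
    have : (⟨r 3 * r 3, hrr 3⟩ : A) ^ 2 = 1 := Subtype.ext hw2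
    rw [this, map_one]
  rcases sum_lin (φ 1) with ⟨h, h'⟩ | h
  · have h3 : (ψ ⟨r 1 * r 1, hrr 1⟩) ^ 2 = 1 := by
      have h4 := h' ⟨r 1 * r 1, hrr 1⟩
      rw [hφ] at h4
      have h5 : cj 1 ⟨r 1 * r 1, hrr 1⟩ = ⟨r 1 * r 1, hrr 1⟩ := by
        apply Subtype.ext
        show x * (x * x) * x⁻¹ = x * x
        group
      rw [h5] at h4
      rw [pow_two]
      exact h4
    have h4 : ψ ⟨r 3 * r 3, hrr 3⟩ = 1 := by
      rw [hw3, map_pow, pow_mul, h3, one_pow]
    rw [h4, Units.val_one, one_mul, h]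
    have e3 : (0 : ℝ) ≤ (∑ a : A, ((φ 3 a : ℂˣ) : ℂ)).re := by
      rcases sum_lin (φ 3) with ⟨h, -⟩ | h
      · rw [h, Complex.natCast_re]; exact hcard
      · rw [h, Complex.zero_re]
    rcases hpm _ h3 with h5 | h5
    · rw [h5, one_mul, Complex.add_re, Complex.add_re, Complex.add_re, Complex.natCast_re]
      linarith
    · rw [h5, Complex.add_re, Complex.add_re, Complex.add_re, neg_one_mul, Complex.neg_re, Complex.natCast_re]
      linarith
  · rw [h, mul_zero, add_zero, Complex.add_re, Complex.add_re, Complex.natCast_re]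
    rcases sum_lin (φ 3) with ⟨h3, -⟩ | h3
    · rw [h3]
      rcases ew with h4 | h4
      · rw [h4, one_mul, Complex.natCast_re]; linarith
      · rw [h4, neg_one_mul, Complex.neg_re, Complex.natCast_re]; linarith
    · rw [h3, mul_zero, Complex.zero_re]; linarith

/-- the group `A ∪ A x ∪ A y ∪ A x y` in an ambient group -/
theorem exists_sd {Γ : Type u} [Group Γ] (A : Subgroup Γ) [Finite A] (hc : ∀ a ∈ A, ∀ b ∈ A, a * b = b * a) {x y : Γ}
    (hx : ∀ a ∈ A, x * a * x⁻¹ ∈ A) (hx' : ∀ a ∈ A, x⁻¹ * a * x ∈ A) (hy : ∀ a ∈ A, y * a * y⁻¹ = a⁻¹)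
    (hy2 : y * y = 1) (hx2 : x * x ∈ A) {m : ℕ} (hw : (x * y) * (x * y) = (x * x) ^ (2 * m))
    (hw2 : ((x * y) * (x * y)) ^ 2 = 1) (hxA : x ∉ A) (hyA : y ∉ A) (hxyA : x * y ∉ A) :
    ∃ Y : Subgroup Γ, A ≤ Y ∧ x ∈ Y ∧ y ∈ Y ∧
      (∀ s ∈ Y, s ∈ A ∨ s * x⁻¹ ∈ A ∨ s * y⁻¹ ∈ A ∨ s * (x * y)⁻¹ ∈ A) ∧ FSZs Y 1 := by
  have hyi : y⁻¹ = y := inv_eq_of_mul_eq_one_left hy2
  set E := ext A x hx hx2 hx' with hE
  have hAE : A ≤ E := fun a ha => Or.inl ha
  have hxE : x ∈ E := Or.inr hx2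
  have hwA : (x * y) * (x * y) ∈ A := by rw [hw]; exact A.pow_mem hx2 _
  have hyx : y * x * y⁻¹ ∈ E := by
    have h1 : y * x * y⁻¹ = x⁻¹ * ((x * y) * (x * y)) * (y * y)⁻¹ := by group
    rw [h1, hy2, inv_one, mul_one]
    exact E.mul_mem (E.inv_mem hxE) (hAE hwA)
  have hEform : ∀ e ∈ E, e ∈ A ∨ ∃ a ∈ A, e = a * x := by
    rintro e (he | he)
    · exact Or.inl he
    · right
      refine ⟨e * x * (x * x)⁻¹, A.mul_mem he (A.inv_mem hx2), ?_⟩
      group
  have hyE : ∀ e ∈ E, y * e * y⁻¹ ∈ E := by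
    intro e he
    rcases hEform e he with he | ⟨a, ha, rfl⟩
    · rw [hy e he]
      exact hAE (A.inv_mem he)
    · have h1 : y * (a * x) * y⁻¹ = (y * a * y⁻¹) * (y * x * y⁻¹) := by group
      rw [h1, hy a ha]
      exact E.mul_mem (hAE (A.inv_mem ha)) hyx
  have hyE' : ∀ e ∈ E, y⁻¹ * e * y ∈ E := by
    intro e he
    have h1 := hyE e he
    rw [hyi] at h1 ⊢
    exact h1
  have hy2E : y * y ∈ E := by rw [hy2]; exact E.one_mem
  set Y := ext E y hyE hy2E hyE' with hY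
  have hEY : E ≤ Y := fun a ha => Or.inl ha
  have hyY : y ∈ Y := Or.inr hy2E
  have hcov : ∀ s ∈ Y, s ∈ A ∨ s * x⁻¹ ∈ A ∨ s * y⁻¹ ∈ A ∨ s * (x * y)⁻¹ ∈ A := by
    rintro s (hs | hs)
    · rcases hEform s hs with h | ⟨a, ha, rfl⟩
      · exact Or.inl h
      · right; left
        rw [mul_inv_cancel_right]
        exact ha
    · rcases hEform _ hs with h | ⟨a, ha, h⟩
      · right; right; left
        rw [hyi]; exact h
      · right; right; right
        have h1 : s * (x * y)⁻¹ = (s * y⁻¹) * x⁻¹ := by group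
        rw [h1, hyi, h, mul_inv_cancel_right]
        exact ha
  have hfin : Finite Y := by
    have h5 : (Y : Set Γ) ⊆ (A : Set Γ) ∪ ((fun a => a * x) '' (A : Set Γ) ∪ ((fun a => a * y) '' (A : Set Γ) ∪
        (fun a => a * (x * y)) '' (A : Set Γ))) := by
      intro s hs
      rcases hcov s hs with h | h | h | h
      · exact Or.inl h
      · exact Or.inr (Or.inl ⟨_, h, by group⟩)
      · exact Or.inr (Or.inr (Or.inl ⟨_, h, by group⟩))
      · exact Or.inr (Or.inr (Or.inr ⟨_, h, by group⟩))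
    have hfA : (A : Set Γ).Finite := Set.toFinite _
    exact ((hfA.union ((hfA.image _).union ((hfA.image _).union (hfA.image _)))).subset h5).to_subtype
  refine ⟨Y, hAE.trans hEY, hEY hxE, hyY, hcov, Y.one_mem, ?_⟩
  have h1 : (⟨1, Y.one_mem⟩ : Y) = 1 := rfl
  rw [h1, fsz_one_iff]
  have hAY : A ≤ Y := hAE.trans hEY
  refine good_sd (A.subgroupOf Y) (x := ⟨x, hEY hxE⟩) (y := ⟨y, hyY⟩) (m := m) ?_ ?_ ?_ ?_ ?_ ?_ ?_ hxA hyA hxyA ?_
  · intro a b
    exact Subtype.ext (Subtype.ext (hc _ a.2 _ b.2))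
  · intro a ha
    exact hx _ ha
  · intro a ha
    exact Subtype.ext (hy _ ha)
  · exact Subtype.ext hy2
  · exact hx2
  · exact Subtype.ext hw
  · exact Subtype.ext hw2
  · intro s
    exact hcov s s.2

/-- a 2-group permutes a set of pairs `{x, z x}` of odd size -/
theorem exists_pair {Γ : Type u} [Group Γ] {z : Γ} (hzc : ∀ g, g * z = z * g) (hz2 : z * z = 1) (hz1 : z ≠ 1)
    (P : Subgroup Γ) (hP : IsPGroup 2 P) (X : Finset Γ) (hzX : ∀ x ∈ X, z * x ∈ X)
    (hPX : ∀ g ∈ P, ∀ x ∈ X, g * x * g⁻¹ ∈ X) (hcard : X.card % 4 = 2) :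
    ∃ x ∈ X, ∀ g ∈ P, g * x * g⁻¹ = x ∨ g * x * g⁻¹ = z * x := by
  classical
  let pr : Γ → Finset Γ := fun x => {x, z * x}
  have hpr : ∀ x y, pr x = pr y ↔ x = y ∨ x = z * y := by
    intro x y
    constructor
    · intro h
      have h1 : x ∈ pr y := by rw [← h]; exact Finset.mem_insert_self _ _
      rcases Finset.mem_insert.1 h1 with h2 | h2
      · exact Or.inl h2
      · exact Or.inr (Finset.mem_singleton.1 h2)
    · rintro (rfl | rfl)
      · rfl
      · show ({z * y, z * (z * y)} : Finset Γ) = {y, z * y}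
        rw [← mul_assoc, hz2, one_mul]
        exact Finset.pair_comm _ _
  have hzx : ∀ x : Γ, z * x ≠ x := fun x h => hz1 (mul_eq_right.1 h)
  let S : Finset (Finset Γ) := X.image pr
  have hfib : ∀ s ∈ S, (X.filter (fun x => pr x = s)).card = 2 := by
    intro s hs
    obtain ⟨x, hx, rfl⟩ := Finset.mem_image.1 hs
    have h1 : X.filter (fun y => pr y = pr x) = {x, z * x} := by
      ext y
      rw [Finset.mem_filter, hpr, Finset.mem_insert, Finset.mem_singleton]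
      constructor
      · exact fun h => h.2
      · rintro (rfl | rfl)
        · exact ⟨hx, Or.inl rfl⟩
        · exact ⟨hzX _ hx, Or.inr rfl⟩
    rw [h1, Finset.card_pair (hzx x).symm]
  have hS : X.card = S.card * 2 := by
    rw [Finset.card_eq_sum_card_image pr X, Finset.sum_congr rfl hfib, Finset.sum_const, smul_eq_mul]
  have hodd : ¬ 2 ∣ S.card := by omega
  -- the action
  have hcj : ∀ (g x : Γ), (pr x).image (fun y => g * y * g⁻¹) = pr (g * x * g⁻¹) := by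
    intro g x
    show ({x, z * x} : Finset Γ).image _ = {g * x * g⁻¹, z * (g * x * g⁻¹)}
    rw [Finset.image_insert, Finset.image_singleton]
    congr 2
    rw [← mul_assoc g z x, hzc g]
    group
  have hact : ∀ g ∈ P, ∀ s ∈ S, s.image (fun y => g * y * g⁻¹) ∈ S := by
    intro g hg s hs
    obtain ⟨x, hx, rfl⟩ := Finset.mem_image.1 hs
    rw [hcj]
    exact Finset.mem_image_of_mem _ (hPX g hg x hx)
  let act : MulAction P {s // s ∈ S} :=
    { smul := fun g s => ⟨s.1.image (fun y => (g : Γ) * y * (g : Γ)⁻¹), hact g g.2 s.1 s.2⟩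
      one_smul := fun s => Subtype.ext (by
        show s.1.image (fun y => (1 : Γ) * y * (1 : Γ)⁻¹) = s.1
        simp)
      mul_smul := fun g h s => Subtype.ext (by
        show s.1.image (fun y => ((g * h : P) : Γ) * y * ((g * h : P) : Γ)⁻¹) =
          (s.1.image (fun y => (h : Γ) * y * (h : Γ)⁻¹)).image (fun y => (g : Γ) * y * (g : Γ)⁻¹)
        rw [Finset.image_image]
        congr 1
        funext y
        rw [Function.comp_apply, Subgroup.coe_mul]
        group) }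
  have hc2 : ¬ 2 ∣ Nat.card {s // s ∈ S} := by
    rw [Nat.card_eq_fintype_card, Fintype.card_coe]
    exact hodd
  have : Fact (Nat.Prime 2) := ⟨Nat.prime_two⟩
  obtain ⟨s, hs⟩ := hP.nonempty_fixed_point_of_prime_not_dvd_card {s // s ∈ S} hc2
  obtain ⟨x, hx, hxs⟩ := Finset.mem_image.1 s.2
  refine ⟨x, hx, fun g hg => ?_⟩
  have h1 : (⟨g, hg⟩ : P) • s = s := hs ⟨g, hg⟩
  have h2 : s.1.image (fun y => g * y * g⁻¹) = s.1 := congrArg Subtype.val h1
  rw [← hxs, hcj, hpr] at h2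
  exact h2

end Cfsg.Agent.H47.Uni
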